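import Mathlib

/-!
# Iterated cores of a subgroup and a conjugate by an involution

If `M` has a filtration `L 1 > L 2 > ⋯ > L 7 = 1` by normal subgroups which an involution `s`
shifts by at most one step, the iterated cores of `M` and `sMs` vanish at the sixth step only.
-/

set_option autoImplicit false

open Subgroup

namespace CfsgLib.Lie.Chev.ParabCores

variable {G : Type*} [Group G]

/-- The core in `M` of `Y`. -/
def coreIn (M Y : Subgroup G) : Subgroup G := (Y.subgroupOf M).normalCore.map M.subtype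

theorem mem_coreIn {M Y : Subgroup G} {x : G} :
    x ∈ coreIn M Y ↔ x ∈ M ∧ ∀ g ∈ M, g * x * g⁻¹ ∈ Y := by
  constructor
  · rintro ⟨y, hy, rfl⟩
    exact ⟨y.2, fun g hg => hy ⟨g, hg⟩⟩
  · rintro ⟨hx, h⟩
    exact ⟨⟨x, hx⟩, fun g => h g g.2, rfl⟩

theorem coreIn_le (M Y : Subgroup G) : coreIn M Y ≤ Y := fun x hx => by
  simpa using (mem_coreIn.1 hx).2 1 (one_mem M)

theorem coreIn_le_left (M Y : Subgroup G) : coreIn M Y ≤ M := fun _ hx => (mem_coreIn.1 hx).1

theorem le_coreIn {M Y N : Subgroup G} (hNM : N ≤ M) (hn : ∀ g ∈ M, ∀ x ∈ N, g * x * g⁻¹ ∈ N)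
    (hNY : N ≤ Y) : N ≤ coreIn M Y :=
  fun x hx => mem_coreIn.2 ⟨hNM hx, fun g hg => hNY (hn g hg x hx)⟩

theorem conj_mem_coreIn {M Y : Subgroup G} {g x : G} (hg : g ∈ M) (hx : x ∈ coreIn M Y) :
    g * x * g⁻¹ ∈ coreIn M Y := by
  obtain ⟨hxM, h⟩ := mem_coreIn.1 hx
  refine mem_coreIn.2 ⟨M.mul_mem (M.mul_mem hg hxM) (M.inv_mem hg), fun k hk => ?_⟩
  have := h (k * g) (M.mul_mem hk hg)
  rwa [show k * g * x * (k * g)⁻¹ = k * (g * x * g⁻¹) * k⁻¹ by group] at this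

/-- The data of a graded subgroup and an involution. -/
structure Graded (M : Subgroup G) (s : G) (L : ℕ → Subgroup G) : Prop where
  invol : s * s = 1
  le : ∀ k, 1 ≤ k → L k ≤ M
  normal : ∀ k, 1 ≤ k → ∀ g ∈ M, ∀ x ∈ L k, g * x * g⁻¹ ∈ L k
  mono : ∀ k, 1 ≤ k → L (k + 1) ≤ L k
  shift : ∀ k, 1 ≤ k → ∀ x ∈ L (k + 1), s * x * s⁻¹ ∈ L k
  cent : ∀ g ∈ M, (∀ x ∈ L 1, g * x = x * g) → g ∈ L 1
  climb_one : ∀ N : Subgroup G, N ≤ L 1 → (∀ g ∈ M, ∀ x ∈ N, g * x * g⁻¹ ∈ N) →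
    (∀ x ∈ N, s * x * s⁻¹ ∈ M) → N ≤ L 2
  climb : ∀ k, 2 ≤ k → k ≤ 6 → ∀ N : Subgroup G, N ≤ L k →
    (∀ g ∈ M, ∀ x ∈ N, g * x * g⁻¹ ∈ N) → (∀ x ∈ N, s * x * s⁻¹ ∈ L k) → N ≤ L (k + 1)
  top : L 7 = ⊥
  six : L 6 ≠ ⊥

variable {M : Subgroup G} {s : G} {L : ℕ → Subgroup G}

theorem map_conj_mem (H : Subgroup G) (g x : G) :
    x ∈ H.map (MulAut.conj g).toMonoidHom ↔ g⁻¹ * x * g ∈ H := by
  rw [mem_map_equiv, MulAut.conj_symm_apply]

theorem Graded.witness (D : Graded M s L) :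
    ∃ A B : ℕ → Subgroup G, A 0 = M ∧ B 0 = M.map (MulAut.conj s).toMonoidHom ∧
      (∀ i, A (i + 1) = coreIn M (A i ⊓ B i)) ∧
      (∀ i, B (i + 1) = coreIn (M.map (MulAut.conj s).toMonoidHom) (A i ⊓ B i)) ∧
      A 6 = ⊥ ∧ A 5 ≠ ⊥ ∧ M ≠ M.map (MulAut.conj s).toMonoidHom ∧ M.normalCore = ⊥ := by
  set M₂ := M.map (MulAut.conj s).toMonoidHom with hM₂
  let P : ℕ → Subgroup G × Subgroup G := fun n => Nat.rec (M, M₂)
    (fun _ ab => (coreIn M (ab.1 ⊓ ab.2), coreIn M₂ (ab.1 ⊓ ab.2))) n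
  set A := fun n => (P n).1 with hA
  set B := fun n => (P n).2 with hB
  have hA0 : A 0 = M := rfl
  have hB0 : B 0 = M₂ := rfl
  have hAs : ∀ i, A (i + 1) = coreIn M (A i ⊓ B i) := fun i => rfl
  have hBs : ∀ i, B (i + 1) = coreIn M₂ (A i ⊓ B i) := fun i => rfl
  have hs : s⁻¹ = s := inv_eq_of_mul_eq_one_right D.invol
  have hswap : ∀ x : G, s * (s * x * s⁻¹) * s⁻¹ = x := fun x => by
    rw [show s * (s * x * s⁻¹) * s⁻¹ = (s * s) * x * (s * s)⁻¹ by group, D.invol]; group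
  have hM₂mem : ∀ x, x ∈ M₂ ↔ s * x * s⁻¹ ∈ M := fun x => by
    rw [hM₂, map_conj_mem, hs]
  have hAn : ∀ i, ∀ g ∈ M, ∀ x ∈ A i, g * x * g⁻¹ ∈ A i := by
    rintro (_ | i) g hg x hx
    · exact M.mul_mem (M.mul_mem hg hx) (M.inv_mem hg)
    · exact conj_mem_coreIn hg hx
  have hBn : ∀ i, ∀ g ∈ M₂, ∀ x ∈ B i, g * x * g⁻¹ ∈ B i := by
    rintro (_ | i) g hg x hx
    · exact M₂.mul_mem (M₂.mul_mem hg hx) (M₂.inv_mem hg)
    · exact conj_mem_coreIn hg hx
  -- lower bounds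
  have hlow : ∀ i, L (i + 1) ≤ A i ∧ ∀ x ∈ L (i + 1), s * x * s⁻¹ ∈ B i := by
    intro i
    induction i with
    | zero =>
      exact ⟨D.le 1 le_rfl, fun x hx => (hM₂mem _).2 (by rw [hswap]; exact D.le 1 le_rfl hx)⟩
    | succ i ih =>
      have hAB : L (i + 2) ≤ A i ⊓ B i := fun x hx => mem_inf.2
        ⟨ih.1 (D.mono (i + 1) (by omega) hx), by
          have := ih.2 _ (D.shift (i + 1) (by omega) x hx)
          rwa [hswap] at this⟩
      refine ⟨(hAs i) ▸ le_coreIn (D.le _ (by omega)) (D.normal _ (by omega)) hAB, fun x hx => ?_⟩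
      rw [hBs i, mem_coreIn]
      refine ⟨(hM₂mem _).2 (by rw [hswap]; exact D.le (i + 2) (by omega) hx), fun g hg => ?_⟩
      have h1 : g * (s * x * s⁻¹) * g⁻¹ =
          s * ((s * g * s⁻¹) * x * (s * g * s⁻¹)⁻¹) * s⁻¹ := by
        conv_lhs => rw [show g = s * (s * g * s⁻¹) * s⁻¹ from (hswap g).symm]
        group
      rw [h1]
      have h2 := D.normal (i + 2) (by omega) _ ((hM₂mem g).1 hg) x hx
      exact mem_inf.2 ⟨ih.1 (D.shift (i + 1) (by omega) _ h2),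
        ih.2 _ (D.mono (i + 1) (by omega) h2)⟩
  -- upper bounds
  have hup : ∀ i, i ≤ 6 → A i ⊓ L 1 ≤ L (i + 1) ∧
      ∀ y ∈ B i, s * y * s⁻¹ ∈ L 1 → s * y * s⁻¹ ∈ L (i + 1) := by
    intro i hi
    induction i with
    | zero => exact ⟨inf_le_right, fun y _ h => h⟩
    | succ i ih =>
      obtain ⟨ihA, ihB⟩ := ih (by omega)
      have hkey : ∀ N : Subgroup G, N ≤ L 1 → (∀ g ∈ M, ∀ x ∈ N, g * x * g⁻¹ ∈ N) →
          (∀ x ∈ N, (x ∈ A i ∧ x ∈ B i) ∨ (s * x * s⁻¹ ∈ A i ∧ s * x * s⁻¹ ∈ B i)) →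
          N ≤ L (i + 1 + 1) := by
        intro N hN hNn hNA
        rcases Nat.eq_zero_or_pos i with rfl | hi1
        · refine D.climb_one N hN hNn fun x hx => ?_
          rcases hNA x hx with h | h
          · exact (hM₂mem x).1 h.2
          · exact h.1
        · have hN1 : N ≤ L (i + 1) := by
            intro x hx
            rcases hNA x hx with h | h
            · exact ihA (mem_inf.2 ⟨h.1, hN hx⟩)
            · have := ihB _ h.2 (by rw [hswap]; exact hN hx)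
              rwa [hswap] at this
          refine D.climb (i + 1) (by omega) (by omega) N hN1 hNn fun x hx => ?_
          have h1 : s * x * s⁻¹ ∈ L 1 := by
            have hdown : ∀ k, 1 ≤ k → L k ≤ L 1 := fun k hk => by
              induction k, hk using Nat.le_induction with
              | base => exact le_rfl
              | succ k hk ih => exact (D.mono k hk).trans ih
            exact hdown i hi1 (D.shift i hi1 x (hN1 hx))
          rcases hNA x hx with h | h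
          · exact ihB x h.2 h1
          · exact ihA (mem_inf.2 ⟨h.1, h1⟩)
      refine ⟨hkey (A (i + 1) ⊓ L 1) inf_le_right (fun g hg x hx => mem_inf.2
        ⟨hAn (i + 1) g hg x (mem_inf.1 hx).1, D.normal 1 le_rfl g hg x (mem_inf.1 hx).2⟩) (fun x hx => ?_),
        fun y hy hy1 => ?_⟩
      · exact Or.inl (mem_inf.1 (coreIn_le _ _ ((hAs i) ▸ (mem_inf.1 hx).1)))
      · refine hkey ((B (i + 1)).map (MulAut.conj s).toMonoidHom ⊓ L 1) inf_le_right
          (fun g hg x hx => ?_) (fun x hx => ?_) (mem_inf.2 ⟨?_, hy1⟩)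
        · obtain ⟨h1, h2⟩ := mem_inf.1 hx
          refine mem_inf.2 ⟨?_, D.normal 1 le_rfl g hg x h2⟩
          rw [map_conj_mem, hs] at h1 ⊢
          have h3 : s * g * s ∈ M₂ := (hM₂mem _).2 (by
            rw [show s * (s * g * s) * s⁻¹ = (s * s) * g by group, D.invol, one_mul]; exact hg)
          have h4 := hBn (i + 1) _ h3 _ h1
          rwa [show s * g * s * (s * x * s) * (s * g * s)⁻¹ =
            s * g * (s * s) * x * g⁻¹ * s⁻¹ by group, D.invol, hs, mul_one,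
            show s * g * x * g⁻¹ * s = s * (g * x * g⁻¹) * s by group] at h4
        · obtain ⟨h1, -⟩ := mem_inf.1 hx
          rw [map_conj_mem, hs] at h1
          refine Or.inr ?_
          rw [hs]
          exact mem_inf.1 (coreIn_le _ _ ((hBs i) ▸ h1))
        · rw [map_conj_mem, show s⁻¹ * (s * y * s⁻¹) * s = y by group]; exact hy
  have hA6 : A 6 = ⊥ := by
    have hb : ∀ x ∈ A 6, x ∈ L 1 → x = 1 := fun x hx hx1 => by
      have := (hup 6 le_rfl).1 (mem_inf.2 ⟨hx, hx1⟩)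
      rwa [D.top, mem_bot] at this
    rw [eq_bot_iff]
    intro a ha
    have haM : a ∈ M := coreIn_le_left _ _ ((hAs 5) ▸ ha)
    refine mem_bot.2 (hb a ha (D.cent a haM fun x hx => ?_))
    have hc : a * x * a⁻¹ * x⁻¹ = 1 := by
      refine hb _ ?_ ?_
      · rw [show a * x * a⁻¹ * x⁻¹ = a * (x * a⁻¹ * x⁻¹) by group]
        exact (A 6).mul_mem ha (hAn 6 x (D.le 1 le_rfl hx) _ ((A 6).inv_mem ha))
      · exact (L 1).mul_mem (D.normal 1 le_rfl a haM x hx) ((L 1).inv_mem hx)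
    calc a * x = a * x * a⁻¹ * x⁻¹ * (x * a) := by group
      _ = x * a := by rw [hc, one_mul]
  have hA5 : A 5 ≠ ⊥ := fun h => D.six (eq_bot_iff.2 (h ▸ (hlow 5).1))
  have hne : M ≠ M₂ := by
    intro h
    have hall : ∀ i, A i = M ∧ B i = M := by
      intro i
      induction i with
      | zero => exact ⟨hA0, hB0.trans h.symm⟩
      | succ i ih =>
        rw [hAs, hBs, ih.1, ih.2, ← h, inf_idem]
        have : coreIn M M = M := le_antisymm (coreIn_le M M)
          (le_coreIn le_rfl (fun g hg x hx => M.mul_mem (M.mul_mem hg hx) (M.inv_mem hg)) le_rfl)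
        exact ⟨this, this⟩
    exact D.six (eq_bot_iff.2 ((D.le 6 (by norm_num)).trans ((hall 6).1 ▸ hA6).le))
  have hcore : M.normalCore = ⊥ := by
    have hall : ∀ i, M.normalCore ≤ A i ∧ M.normalCore ≤ B i := by
      have hB0' : M.normalCore ≤ M₂ := fun x hx => (hM₂mem x).2
        (M.normalCore_le (M.normalCore_normal.conj_mem x hx s))
      intro i
      induction i with
      | zero => exact ⟨M.normalCore_le, hB0'⟩
      | succ i ih =>
        exact ⟨(hAs i) ▸ le_coreIn M.normalCore_le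
            (fun g _ x hx => M.normalCore_normal.conj_mem x hx g) (le_inf ih.1 ih.2),
          (hBs i) ▸ le_coreIn hB0'
            (fun g _ x hx => M.normalCore_normal.conj_mem x hx g) (le_inf ih.1 ih.2)⟩
    exact eq_bot_iff.2 (hA6 ▸ (hall 6).1)
  exact ⟨A, B, hA0, hB0, hAs, hBs, hA6, hA5, hne, hcore⟩

end CfsgLib.Lie.Chev.ParabCores
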