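import Cfsg.Agent.Lib.Lie.Chev.FullAll
import Cfsg.Agent.Lib.Lie.Chev.Parab
import Cfsg.Agent.Lib.Lie.Chev.ParabLevi

/-!
# The grading of the root system of type `E8` by the branch node, checked on the tables
-/

set_option autoImplicit false
set_option maxRecDepth 100000

namespace CfsgLib.Lie.Chev.ParabCores

open Cfsg.Lie

/-- The last root of each level. -/
def topRoot (k : ℕ) : ℕ := #[0, 173, 193, 213, 230, 234, 239].getD k 0

/-- The Cartan matrix is symmetric. -/
theorem table_symm : ∀ i < 8, ∀ j < 8,
    chevE8.cartan i (chevE8.simple j) = chevE8.cartan j (chevE8.simple i) := by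
  decide +kernel

/-- A root of positive level is the last of its level or is raised by a reflection off the node. -/
theorem table_climb : ∀ r < 240, 1 ≤ crc chevE8 r 3 →
    r = topRoot (crc chevE8 r 3).toNat ∨
      ∃ i < 8, i ≠ 3 ∧ r < chevE8.reflectRoot i r := by
  decide +kernel

/-- The reflection in the node lowers levels above one by at most one. -/
theorem table_shift : ∀ r < 240, 2 ≤ crc chevE8 r 3 →
    crc chevE8 r 3 - 1 ≤ crc chevE8 (chevE8.reflectRoot 3 r) 3 := by
  decide +kernel

/-- At each level above one some root is lowered by the reflection in the node. -/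
theorem table_drop : ∀ k < 5, ∃ r < 240, crc chevE8 r 3 = (k : ℕ) + 2 ∧
    crc chevE8 (chevE8.reflectRoot 3 r) 3 = (k : ℕ) + 1 := by
  decide +kernel

/-- The levels are at most six. -/
theorem table_le_six : ∀ r < 240, crc chevE8 r 3 ≤ 6 := by
  decide +kernel

/-- The highest root has level six. -/
theorem table_six : crc chevE8 239 3 = 6 := by
  decide +kernel

/-- Every root has an odd Cartan integer with some fundamental root. -/
theorem table_odd : ∀ r < 240, ∃ j < 8, chevE8.cartan j r % 2 = 1 := by
  decide +kernel

end CfsgLib.Lie.Chev.ParabCores
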