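import Cfsg.Agent.Lib.Lie.Chev.ParabCent
import Cfsg.Agent.Lib.Lie.Chev.Borel

/-!
# The grading of a unipotent radical by the coefficient of one fundamental root
-/

set_option autoImplicit false
set_option maxHeartbeats 400000

namespace CfsgLib.Lie.Chev.ParabCores

open Cfsg.Lie Subgroup
open scoped MatrixGroups

variable {D : ChevalleyDatum} (C : Full D) {K : Type*} [Field K] (m : Fin D.rank)

/-- The coefficient on the chosen fundamental root of a basis vector. -/
def lev (b : D.Idx) : ℤ := weight D C.G.rho b m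

/-- The subgroup of the roots of level at least `k`. -/
noncomputable def levCl (k : ℕ) : Subgroup (GL D.Idx K) :=
  ClP C.G fun r => (k : ℤ) ≤ C.G.rho r m

theorem pos_of_lev {r : Fin D.nroots} (h : 0 < C.G.rho r m) : D.IsPosRoot r.val :=
  C.G.isPosRoot_of_coord h

theorem levCl_mono {k l : ℕ} (h : k ≤ l) : levCl C m l ≤ (levCl C m k : Subgroup (GL D.Idx K)) :=
  C.G.ClP_mono fun _ hr => le_trans (by exact_mod_cast h) hr

theorem xu_mem_levCl {k : ℕ} {r : Fin D.nroots} (hr : (k : ℤ) ≤ C.G.rho r m) (t : K) :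
    C.G.xu r t ∈ levCl C m k :=
  C.G.xu_mem_ClP (P := fun r => (k : ℤ) ≤ C.G.rho r m) hr t

theorem lev_combo {s b p : Fin D.nroots} (hs : 0 ≤ C.G.rho s m) (hb : 0 ≤ C.G.rho b m) {i j : ℕ}
    (hi : 1 ≤ i) (hj : 1 ≤ j)
    (e : C.G.rho p = (i : ℤ) • C.G.rho s + (j : ℤ) • C.G.rho b) :
    C.G.rho s m + C.G.rho b m ≤ C.G.rho p m := by
  rw [e, Pi.add_apply, Pi.smul_apply, Pi.smul_apply, smul_eq_mul, smul_eq_mul]
  have h1 : (1 : ℤ) ≤ i := by exact_mod_cast hi
  have h2 : (1 : ℤ) ≤ j := by exact_mod_cast hj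
  nlinarith

theorem U_normal_levCl {k : ℕ} (hk : 1 ≤ k) {g : GL D.Idx K} (hg : g ∈ D.posUnipotent K)
    {v : GL D.Idx K} (hv : v ∈ levCl C m k) : g * v * g⁻¹ ∈ levCl C m k := by
  refine C.U_normalizes_ClP (fun b hb => pos_of_lev C m (by omega))
    (fun s hs b hb p i j hi hj e => ?_) hg hv
  have := lev_combo C m (C.G.rho_nonneg hs m) (by omega) hi hj e
  have := C.G.rho_nonneg hs m
  omega

/-- An element of the group generated by the roots with `P` and one further root factors. -/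
theorem split {P : Fin D.nroots → Prop} {a : Fin D.nroots} (ha : D.IsPosRoot a.val)
    (hP : ∀ b, P b → D.IsPosRoot b.val)
    (hup : ∀ b, P b → ∀ p (i j : ℕ), 1 ≤ i → 1 ≤ j →
      C.G.rho p = (i : ℤ) • C.G.rho a + (j : ℤ) • C.G.rho b → P p)
    {x : GL D.Idx K} (hx : x ∈ ClP C.G fun r => P r ∨ r = a) :
    ∃ y ∈ (ClP C.G P : Subgroup (GL D.Idx K)), ∃ t : K, x = y * C.G.xu a t := by
  induction hx using Subgroup.closure_induction'' with
  | one => exact ⟨1, one_mem _, 0, by rw [C.G.xu_zero, one_mul]⟩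
  | mem g hg =>
    obtain ⟨r, t, hr | rfl, rfl⟩ := hg
    · exact ⟨_, C.G.xu_mem_ClP hr t, 0, by rw [C.G.xu_zero, mul_one]⟩
    · exact ⟨1, one_mem _, t, by rw [one_mul]⟩
  | inv_mem g hg =>
    obtain ⟨r, t, hr | rfl, rfl⟩ := hg
    · exact ⟨_, inv_mem (C.G.xu_mem_ClP hr t), 0, by rw [C.G.xu_zero, mul_one]⟩
    · exact ⟨1, one_mem _, -t, by rw [one_mul, C.G.xu_inv]⟩
  | mul g h _ _ hg hh =>
    obtain ⟨y, hy, t, rfl⟩ := hg
    obtain ⟨z, hz, u, rfl⟩ := hh
    refine ⟨y * (C.G.xu a t * z * (C.G.xu a t)⁻¹),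
      mul_mem hy (C.xu_normalizes_ClP ha hP hup t hz), t + u, ?_⟩
    rw [C.G.xu_add]
    group

/-- Entries below level `k` off the diagonal vanish. -/
def RaisesLev (k : ℤ) (M : Matrix D.Idx D.Idx K) : Prop :=
  ∀ a b, lev C m a - lev C m b < k → M a b = (1 : Matrix D.Idx D.Idx K) a b

theorem raisesLev_xu {k : ℤ} (hk : 0 < k) {r : Fin D.nroots} (hr : k ≤ C.G.rho r m) (t : K) :
    RaisesLev C m k (C.G.xu r t : Matrix D.Idx D.Idx K) := by
  intro a b hab
  have hz : ∀ n, 1 ≤ n → n < 4 → coef (act D r.val n (pos D b)) (pos D a) = 0 := by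
    intro n hn1 hn4
    by_contra hne
    have hd : dmat D r n a b ≠ 0 := by simpa [dmat, show n ≠ 0 by omega] using hne
    have e := congrFun (C.G.weight_eq r n a b hd hn4) m
    rw [Pi.add_apply, Pi.smul_apply, smul_eq_mul] at e
    simp only [lev] at hab
    have h2 : (1 : ℤ) ≤ n := by exact_mod_cast hn1
    nlinarith
  rw [Good.coe_xu, xg_apply, hz 1 le_rfl (by norm_num), hz 2 (by norm_num) (by norm_num),
    hz 3 (by norm_num) (by norm_num), Matrix.one_apply]
  simp

theorem RaisesLev.mul {k : ℤ} (hk : 0 < k) {M N : Matrix D.Idx D.Idx K} (hM : RaisesLev C m k M)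
    (hN : RaisesLev C m k N) : RaisesLev C m k (M * N) := by
  intro a b hab
  rw [Matrix.mul_apply, Finset.sum_eq_single a]
  · rw [hM a a (by simpa using hk), hN a b hab, Matrix.one_apply_eq, one_mul]
  · intro c _ hc
    by_cases h : lev C m a - lev C m c < k
    · rw [hM a c h, Matrix.one_apply_ne (Ne.symm hc), zero_mul]
    · rw [hN c b (by omega)]
      by_cases hcb : c = b
      · subst hcb; omega
      · rw [Matrix.one_apply_ne hcb, mul_zero]
  · simp

/-- Entries exactly at level `k` are additive. -/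
theorem RaisesLev.mul_apply_eq {k : ℤ} (hk : 0 < k) {M N : Matrix D.Idx D.Idx K}
    (hM : RaisesLev C m k M) (hN : RaisesLev C m k N) {a b : D.Idx}
    (hab : lev C m a - lev C m b = k) : (M * N) a b = M a b + N a b := by
  have hne : a ≠ b := fun h => by subst h; omega
  rw [Matrix.mul_apply, Finset.sum_eq_add a b hne]
  · rw [hM a a (by omega), Matrix.one_apply_eq, one_mul, hN b b (by omega), Matrix.one_apply_eq,
      mul_one, add_comm]
  · rintro c - ⟨hca, hcb⟩
    by_cases h : lev C m a - lev C m c < k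
    · rw [hM a c h, Matrix.one_apply_ne (Ne.symm hca), zero_mul]
    · rw [hN c b (by omega), Matrix.one_apply_ne hcb, mul_zero]
  · simp
  · simp

theorem raisesLev_levCl {k : ℕ} (hk : 1 ≤ k) {g : GL D.Idx K} (hg : g ∈ levCl C m k) :
    RaisesLev C m k (g : Matrix D.Idx D.Idx K) := by
  induction hg using Subgroup.closure_induction'' with
  | one => exact fun a b _ => by rw [Units.val_one]
  | mul x y _ _ hx hy => rw [Units.val_mul]; exact RaisesLev.mul C m (by omega) hx hy
  | mem x hx => obtain ⟨r, t, h1, rfl⟩ := hx; exact raisesLev_xu C m (by omega) h1 t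
  | inv_mem x hx =>
    obtain ⟨r, t, h1, rfl⟩ := hx
    rw [C.G.xu_inv]
    exact raisesLev_xu C m (by omega) h1 _

/-- The entry reading the coefficient at the root `r`. -/
def coefAt (r : Fin D.nroots) (j : Fin D.rank) (g : GL D.Idx K) : K :=
  (g : Matrix D.Idx D.Idx K) (Sum.inr r) (Sum.inl j)

theorem coefAt_mul {k : ℕ} (hk : 1 ≤ k) {r : Fin D.nroots} (hr : C.G.rho r m = k) (j : Fin D.rank)
    {g h : GL D.Idx K} (hg : g ∈ levCl C m k) (hh : h ∈ levCl C m k) :
    coefAt r j (g * h) = coefAt r j g + coefAt r j h := by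
  rw [coefAt, Units.val_mul]
  refine RaisesLev.mul_apply_eq C m (by omega) (raisesLev_levCl C m hk hg)
    (raisesLev_levCl C m hk hh) ?_
  simp [lev, weight, hr]

include C in
theorem coefAt_xu (r q : Fin D.nroots) (j : Fin D.rank) (t : K) :
    coefAt r j (C.G.xu q t) = if r = q then -((cart D j q : ℤ) : K) * t else 0 := by
  rw [coefAt, ← C.G.x_eq_xu, ChevalleyDatum.x, dif_pos q.isLt]
  rfl

/-- Elements of level `k` with trivial coefficients lie at level `k + 1`. -/
theorem mem_succ_of_coef {k : ℕ} (hk : 1 ≤ k) (jf : Fin D.nroots → Fin D.rank)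
    (hjf : ∀ r : Fin D.nroots, ((cart D (jf r) r : ℤ) : K) ≠ 0) {x : GL D.Idx K}
    (hx : x ∈ levCl C m k)
    (h0 : ∀ r, C.G.rho r m = k → coefAt r (jf r) x = 0) : x ∈ levCl C m (k + 1) := by
  classical
  suffices key : ∀ S : Finset (Fin D.nroots), (∀ r ∈ S, C.G.rho r m = k) →
      ∀ y : GL D.Idx K, y ∈ ClP C.G (fun r => ((k + 1 : ℕ) : ℤ) ≤ C.G.rho r m ∨ r ∈ S) →
      (∀ r ∈ S, coefAt r (jf r) y = 0) → y ∈ levCl C m (k + 1) by
    refine key (Finset.univ.filter fun r => C.G.rho r m = k) (by simp) x ?_ (fun r hr => h0 r (by simpa using hr))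
    refine C.G.ClP_mono (fun r hr => ?_) hx
    rcases hr.lt_or_eq with h | h
    · exact Or.inl (by push_cast; omega)
    · exact Or.inr (by simp [h.symm])
  intro S
  induction S using Finset.induction_on with
  | empty =>
    intro _ y hy _
    exact C.G.ClP_mono (fun r hr => by simpa using hr) hy
  | @insert a S ha ih =>
    intro hS y hy h0
    have hak : C.G.rho a m = k := hS a (Finset.mem_insert_self a S)
    have hsub : ∀ b, (((k + 1 : ℕ) : ℤ) ≤ C.G.rho b m ∨ b ∈ S) → (k : ℤ) ≤ C.G.rho b m := by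
      rintro b (hb | hb)
      · push_cast at hb; omega
      · rw [hS b (Finset.mem_insert_of_mem hb)]
    obtain ⟨z, hz, t, rfl⟩ := split C (P := fun r => ((k + 1 : ℕ) : ℤ) ≤ C.G.rho r m ∨ r ∈ S)
      (a := a) (pos_of_lev C m (by omega))
      (fun b hb => pos_of_lev C m (by have := hsub b hb; omega))
      (fun b hb p i j hi hj e => Or.inl (by
        have := lev_combo C m (by omega) (by have := hsub b hb; omega) hi hj e
        have := hsub b hb
        push_cast
        omega))
      (C.G.ClP_mono (fun r hr => by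
        rcases hr with hr | hr
        · exact Or.inl (Or.inl hr)
        · rcases Finset.mem_insert.1 hr with h | h
          · exact Or.inr h
          · exact Or.inl (Or.inr h)) hy)
    have hzk : z ∈ levCl C m k := C.G.ClP_mono hsub hz
    have hak' : C.G.xu a t ∈ (levCl C m k : Subgroup (GL D.Idx K)) :=
      xu_mem_levCl C m (le_of_eq hak.symm) t
    have hza : coefAt a (jf a) z = 0 := by
      clear h0 hy hak' hzk
      suffices z ∈ levCl C m k ∧ coefAt a (jf a) z = 0 from this.2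
      induction hz using Subgroup.closure_induction'' with
      | one => exact ⟨one_mem _, by simp [coefAt]⟩
      | mul u v _ _ hu hv =>
        exact ⟨mul_mem hu.1 hv.1, by rw [coefAt_mul C m hk hak _ hu.1 hv.1, hu.2, hv.2, add_zero]⟩
      | mem u hu =>
        obtain ⟨r, s, hr, rfl⟩ := hu
        refine ⟨xu_mem_levCl C m (hsub r hr) s, ?_⟩
        rw [coefAt_xu C, if_neg]
        rintro rfl
        rcases hr with hr | hr
        · push_cast at hr; omega
        · exact ha hr
      | inv_mem u hu =>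
        obtain ⟨r, s, hr, rfl⟩ := hu
        rw [C.G.xu_inv]
        refine ⟨xu_mem_levCl C m (hsub r hr) _, ?_⟩
        rw [coefAt_xu C, if_neg]
        rintro rfl
        rcases hr with hr | hr
        · push_cast at hr; omega
        · exact ha hr
    have ht : t = 0 := by
      have h := h0 a (Finset.mem_insert_self a S)
      rw [coefAt_mul C m hk hak _ hzk hak', hza, zero_add, coefAt_xu C, if_pos rfl, neg_mul,
        neg_eq_zero, mul_eq_zero] at h
      exact h.resolve_left (hjf a)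
    rw [ht, C.G.xu_zero, mul_one] at h0 ⊢
    exact ih (fun r hr => hS r (Finset.mem_insert_of_mem hr)) z hz
      (fun r hr => h0 r (Finset.mem_insert_of_mem hr))

/-- Conjugation by `n_i` carries the levels from `k` on to those from `l` on. -/
theorem nU_conj_mem (i : Fin D.rank) {k l : ℕ}
    (hw : ∀ q, (k : ℤ) ≤ C.G.rho q m → (l : ℤ) ≤ C.G.rho (C.G.w i q) m)
    {x : GL D.Idx K} (hx : x ∈ levCl C m k) : C.G.nU i * x * (C.G.nU i)⁻¹ ∈ levCl C m l := by
  induction hx using Subgroup.closure_induction with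
  | mem g hg =>
    obtain ⟨r, t, hr, rfl⟩ := hg
    rw [C.G.nU_xu, mul_inv_cancel_right]
    exact xu_mem_levCl C m (hw r hr) _
  | one => simp
  | mul a b _ _ ha hb =>
    rw [show C.G.nU i * (a * b) * (C.G.nU i)⁻¹ =
      (C.G.nU i * a * (C.G.nU i)⁻¹) * (C.G.nU i * b * (C.G.nU i)⁻¹) by group]
    exact mul_mem ha hb
  | inv a _ ha =>
    rw [show C.G.nU i * a⁻¹ * (C.G.nU i)⁻¹ = (C.G.nU i * a * (C.G.nU i)⁻¹)⁻¹ by group]
    exact inv_mem ha

/-- The coefficient at `w r` of a conjugate is, up to a unit, that at `r`. -/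
theorem coef_conj (i : Fin D.rank) {k l : ℕ} (hk : 1 ≤ k) (hl : 1 ≤ l)
    (hw : ∀ q, (k : ℤ) ≤ C.G.rho q m → (l : ℤ) ≤ C.G.rho (C.G.w i q) m)
    (jf : Fin D.nroots → Fin D.rank) {r : Fin D.nroots} (hr : C.G.rho r m = k)
    (hwr : C.G.rho (C.G.w i r) m = l) {x : GL D.Idx K} (hx : x ∈ levCl C m k) :
    coefAt (C.G.w i r) (jf (C.G.w i r)) (C.G.nU i * x * (C.G.nU i)⁻¹) *
        ((cart D (jf r) r : ℤ) : K) =
      ((C.G.eta i r : ℤ) : K) * ((cart D (jf (C.G.w i r)) (C.G.w i r) : ℤ) : K) *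
        coefAt r (jf r) x := by
  have hgen : ∀ q t, (k : ℤ) ≤ C.G.rho q m →
      coefAt (C.G.w i r) (jf (C.G.w i r)) (C.G.nU i * C.G.xu q t * (C.G.nU i)⁻¹) *
          ((cart D (jf r) r : ℤ) : K) =
        ((C.G.eta i r : ℤ) : K) * ((cart D (jf (C.G.w i r)) (C.G.w i r) : ℤ) : K) *
          coefAt r (jf r) (C.G.xu q t) := by
    intro q t _
    rw [C.G.nU_xu, mul_inv_cancel_right, coefAt_xu C, coefAt_xu C]
    by_cases h : r = q
    · subst h; rw [if_pos rfl, if_pos rfl]; ring
    · rw [if_neg h, if_neg, zero_mul, mul_zero]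
      intro e
      exact h (by rw [← C.G.w_w i r, e, C.G.w_w])
  suffices x ∈ levCl C m k ∧
      coefAt (C.G.w i r) (jf (C.G.w i r)) (C.G.nU i * x * (C.G.nU i)⁻¹) *
          ((cart D (jf r) r : ℤ) : K) =
        ((C.G.eta i r : ℤ) : K) * ((cart D (jf (C.G.w i r)) (C.G.w i r) : ℤ) : K) *
          coefAt r (jf r) x from this.2
  induction hx using Subgroup.closure_induction'' with
  | one => exact ⟨one_mem _, by simp [coefAt]⟩
  | mem g hg =>
    obtain ⟨q, t, hq, rfl⟩ := hg
    exact ⟨xu_mem_levCl C m hq t, hgen q t hq⟩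
  | inv_mem g hg =>
    obtain ⟨q, t, hq, rfl⟩ := hg
    rw [C.G.xu_inv]
    exact ⟨xu_mem_levCl C m hq _, hgen q _ hq⟩
  | mul a b _ _ ha hb =>
    refine ⟨mul_mem ha.1 hb.1, ?_⟩
    rw [show C.G.nU i * (a * b) * (C.G.nU i)⁻¹ =
      (C.G.nU i * a * (C.G.nU i)⁻¹) * (C.G.nU i * b * (C.G.nU i)⁻¹) by group,
      coefAt_mul C m hl hwr _ (nU_conj_mem C m i hw ha.1) (nU_conj_mem C m i hw hb.1),
      coefAt_mul C m hk hr _ ha.1 hb.1, add_mul, mul_add, ha.2, hb.2]

/-- The entries raising the level vanish on the parabolic subgroup. -/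
def LowZero (M : Matrix D.Idx D.Idx K) : Prop :=
  ∀ a b, lev C m a < lev C m b → M a b = 0

theorem LowZero.mul {M N : Matrix D.Idx D.Idx K} (hM : LowZero C m M) (hN : LowZero C m N) :
    LowZero C m (M * N) := by
  intro a b hab
  rw [Matrix.mul_apply]
  refine Finset.sum_eq_zero fun c _ => ?_
  by_cases h : lev C m a < lev C m c
  · rw [hM a c h, zero_mul]
  · rw [hN c b (by omega), mul_zero]

theorem lowZero_xu {r : Fin D.nroots} (hr : 0 ≤ C.G.rho r m) (t : K) :
    LowZero C m (C.G.xu r t : Matrix D.Idx D.Idx K) := by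
  intro a b hab
  have hz : ∀ n, 1 ≤ n → n < 4 → coef (act D r.val n (pos D b)) (pos D a) = 0 := by
    intro n hn1 hn4
    by_contra hne
    have hd : dmat D r n a b ≠ 0 := by simpa [dmat, show n ≠ 0 by omega] using hne
    have e := congrFun (C.G.weight_eq r n a b hd hn4) m
    rw [Pi.add_apply, Pi.smul_apply, smul_eq_mul] at e
    simp only [lev] at hab
    have h2 : (0 : ℤ) ≤ n := by positivity
    nlinarith
  have hne : a ≠ b := fun h => by subst h; omega
  rw [Good.coe_xu, xg_apply, hz 1 le_rfl (by norm_num), hz 2 (by norm_num) (by norm_num),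
    hz 3 (by norm_num) (by norm_num), if_neg hne]
  simp

theorem lowZero_nU {i : Fin D.rank} (hi : i ≠ m) :
    LowZero C m ((C.G.nU i : GL D.Idx K) : Matrix D.Idx D.Idx K) := by
  intro a b hab
  rw [Good.coe_nU, Matrix.map_apply]
  have h0 : C.G.nZ i a b = 0 := by
    rcases a with a | a <;> rcases b with b | b
    · simp [lev, weight] at hab
    · rfl
    · rfl
    · change (if a = C.G.w i b then C.G.eta i b else 0) = 0
      rw [if_neg]
      rintro rfl
      simp only [lev, weight, Sum.elim_inr, C.G.rho_w, Pi.sub_apply, Pi.smul_apply,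
        Pi.single_eq_of_ne hi.symm, smul_zero, sub_zero] at hab
      exact lt_irrefl _ hab
  rw [h0, Int.cast_zero]

end CfsgLib.Lie.Chev.ParabCores
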