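import Cfsg.Agent.Lib.Lie.Chev.ParabCores.Data
import Cfsg.Agent.Lib.Lie.Chev.ParabCores.Levels
import Cfsg.Agent.Lib.Lie.Chev.ParabCores.Abstract
import Cfsg.Agent.Lib.Lie.Chev.Gen
import Cfsg.Agent.Lib.Lie.BN

/-!
# The parabolic subgroup of `E8(2)` of the branch node
-/

set_option autoImplicit false
set_option maxHeartbeats 800000
set_option maxRecDepth 100000

namespace CfsgLib.Lie.Chev.ParabCores

open Cfsg.Lie Subgroup
open scoped MatrixGroups

local notation "K₂" => ZMod 2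

/-- The branch node. -/
abbrev node : Fin chevE8.rank := ⟨3, show 3 < 8 by norm_num⟩

/-- The nodes of the parabolic subgroup. -/
abbrev nodeCompl : Finset (Fin chevE8.rank) := Finset.univ.erase node

variable (C : Full chevE8)

theorem cart_symm (i j : Fin chevE8.rank) :
    cart chevE8 i (C.G.simp' j) = cart chevE8 j (C.G.simp' i) := by
  rw [cart, cart, C.G.simp_val, C.G.simp_val]
  exact table_symm i.val i.isLt j.val j.isLt

/-- For the simply laced type the coroot table gives the coordinates of the roots. -/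
theorem rho_eq_crc (r : Fin chevE8.nroots) (j : Fin chevE8.rank) :
    C.G.rho r j = crc chevE8 r.val j.val := by
  revert j
  refine C.G.orbit (fun r => ∀ j, C.G.rho r j = crc chevE8 r.val j.val) ?_ ?_ r
  · intro i _ j
    rw [C.G.rho_simp, crc, C.G.coroot_simp, Pi.single_apply]
  · intro i r ih j
    rw [C.G.rho_w, Pi.sub_apply, Pi.smul_apply, smul_eq_mul, Pi.single_apply, crc, C.G.coroot_w,
      ih j, crc]
    congr 1
    by_cases h : j = i
    · rw [if_pos h, if_pos h, mul_one, C.G.cart_eq i r]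
      refine Finset.sum_congr rfl fun k _ => ?_
      rw [cart_symm C k i, ih k, crc, mul_comm]
    · rw [if_neg h, if_neg h, mul_zero]

theorem lev_w (i : Fin chevE8.rank) (r : Fin chevE8.nroots) :
    C.G.rho (C.G.w i r) node = crc chevE8 (chevE8.reflectRoot i.val r.val) 3 := by
  rw [rho_eq_crc C, C.G.w_reflect]

theorem lev_w_ne {i : Fin chevE8.rank} (hi : i ≠ node) (r : Fin chevE8.nroots) :
    C.G.rho (C.G.w i r) node = C.G.rho r node := by
  rw [C.G.rho_w, Pi.sub_apply, Pi.smul_apply, Pi.single_eq_of_ne hi.symm, smul_zero, sub_zero]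

theorem lev_w_node {r : Fin chevE8.nroots} (h : 2 ≤ C.G.rho r node) :
    C.G.rho r node - 1 ≤ C.G.rho (C.G.w node r) node := by
  rw [lev_w C, rho_eq_crc C] at *
  exact table_shift r.val r.isLt h

theorem exists_odd (r : Fin chevE8.nroots) :
    ∃ j : Fin chevE8.rank, ((cart chevE8 j r : ℤ) : K₂) ≠ 0 := by
  obtain ⟨j, hj, h⟩ := table_odd r.val r.isLt
  refine ⟨⟨j, hj⟩, fun h0 => ?_⟩
  rw [ZMod.intCast_zmod_eq_zero_iff_dvd] at h0
  have h1 : chevE8.cartan j r.val % 2 = 0 := Int.emod_eq_zero_of_dvd h0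
  omega

/-- A Cartan row reading off each root. -/
noncomputable def jfun (r : Fin chevE8.nroots) : Fin chevE8.rank :=
  (exists_odd r).choose

theorem jfun_spec (r : Fin chevE8.nroots) : ((cart chevE8 (jfun r) r : ℤ) : K₂) ≠ 0 :=
  (exists_odd r).choose_spec

theorem units_eq_one (u : K₂ˣ) : u = 1 := by
  revert u; decide

theorem diag_eq_bot : chevE8.diagonalSubgroup K₂ = ⊥ := by
  rw [ChevalleyDatum.diagonalSubgroup, Subgroup.closure_eq_bot_iff]
  rintro g ⟨r, t, hr, ht, e⟩
  have hC := nonempty_full (D := chevE8) (by simp)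
  obtain ⟨C⟩ := hC
  refine Set.mem_singleton_iff.2 (Units.ext ?_)
  rw [e, C.G.hMat_diag ⟨r, hr⟩ ht, units_eq_one (Units.mk0 t ht), map_one]

theorem nU_sq_eq_one (i : Fin chevE8.rank) : (C.G.nU i * C.G.nU i : GL chevE8.Idx K₂) = 1 := by
  simpa [diag_eq_bot] using C.G.nU_sq (K := K₂) i

theorem nU_inv (i : Fin chevE8.rank) : (C.G.nU i : GL chevE8.Idx K₂)⁻¹ = C.G.nU i :=
  inv_eq_of_mul_eq_one_right (G := GL chevE8.Idx K₂) (a := C.G.nU i) (b := C.G.nU i)
    (nU_sq_eq_one C i)

theorem inJ_iff (r : Fin chevE8.nroots) : InJ C.G nodeCompl r ↔ C.G.rho r node = 0 := by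
  constructor
  · exact fun h => h node (by simp)
  · intro h m hm
    obtain rfl : m = node := by simpa using hm
    exact h

theorem levCl_one : (levCl C node 1 : Subgroup (GL chevE8.Idx K₂)) = UR C.G nodeCompl := by
  refine le_antisymm ?_ ?_
  · refine (Subgroup.closure_le _).2 ?_
    rintro g ⟨r, t, hr, rfl⟩
    have hr' : (1 : ℤ) ≤ C.G.rho r node := by simpa using hr
    exact Subgroup.subset_closure ⟨r, t, ⟨pos_of_lev C node (by omega),
      fun h => by rw [inJ_iff C] at h; omega⟩, rfl⟩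
  · refine (Subgroup.closure_le _).2 ?_
    rintro g ⟨r, t, ⟨hr, hJ⟩, rfl⟩
    rw [inJ_iff C] at hJ
    have := C.G.rho_nonneg hr node
    exact xu_mem_levCl C node (show ((1 : ℕ) : ℤ) ≤ C.G.rho r node by push_cast; omega) t

theorem mem_normalizer_of_conj_mem {G : Type*} [Group G] [Finite G] (H : Subgroup G) (g : G)
    (h : ∀ x ∈ H, g * x * g⁻¹ ∈ H) : g ∈ Subgroup.normalizer (H : Set G) := by
  rw [Subgroup.mem_normalizer_iff]
  refine fun x => ⟨h x, fun hx => ?_⟩
  have hinj : Function.Injective (fun y : H => (⟨g * y.1 * g⁻¹, h y.1 y.2⟩ : H)) := fun a b hab =>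
    Subtype.ext (mul_left_cancel (mul_right_cancel (congrArg Subtype.val hab)))
  obtain ⟨y, hy⟩ := Finite.injective_iff_surjective.1 hinj ⟨g * x * g⁻¹, hx⟩
  have hyx : (y : G) = x := mul_left_cancel (mul_right_cancel (congrArg Subtype.val hy))
  exact hyx ▸ y.2

theorem PJ_normal {k : ℕ} (hk : 1 ≤ k) {g : GL chevE8.Idx K₂} (hg : g ∈ C.PJ nodeCompl)
    {x : GL chevE8.Idx K₂} (hx : x ∈ levCl C node k) : g * x * g⁻¹ ∈ levCl C node k := by
  have key : C.PJ (K := K₂) nodeCompl ≤
      Subgroup.normalizer ((levCl C node k : Subgroup (GL chevE8.Idx K₂)) : Set (GL chevE8.Idx K₂)) := by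
    have hmk : ∀ g : GL chevE8.Idx K₂,
        (∀ x ∈ (levCl C node k : Subgroup (GL chevE8.Idx K₂)), g * x * g⁻¹ ∈ levCl C node k) →
        g ∈ Subgroup.normalizer
          ((levCl C node k : Subgroup (GL chevE8.Idx K₂)) : Set (GL chevE8.Idx K₂)) :=
      fun g h => mem_normalizer_of_conj_mem _ g h
    refine sup_le (sup_le ?_ ?_) ((Subgroup.closure_le _).2 ?_)
    · exact fun u hu => hmk u fun x hx => U_normal_levCl C node hk hu hx
    · rw [diag_eq_bot]; exact bot_le
    · rintro g ⟨i, hi, rfl⟩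
      have hi' : i ≠ node := by simpa using hi
      exact hmk _ fun x hx => nU_conj_mem C node i (fun q hq => by rw [lev_w_ne C hi']; exact hq) hx
  exact (Subgroup.mem_normalizer_iff.1 (key hg) x).1 hx

theorem PJ_lowZero {g : GL chevE8.Idx K₂} (hg : g ∈ C.PJ nodeCompl) :
    LowZero C node (g : Matrix chevE8.Idx chevE8.Idx K₂) := by
  have hgen : ∀ g ∈ {g : GL chevE8.Idx K₂ |
      (∃ r t, chevE8.IsPosRoot (r : Fin chevE8.nroots).val ∧ g = C.G.xu r t) ∨
        ∃ i ∈ nodeCompl, g = C.G.nU i}, LowZero C node (g : Matrix chevE8.Idx chevE8.Idx K₂) := by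
    rintro g (⟨r, t, hr, rfl⟩ | ⟨i, hi, rfl⟩)
    · exact lowZero_xu C node (C.G.rho_nonneg hr node) t
    · exact lowZero_nU C node (by simpa using hi)
  have hle : C.PJ (K := K₂) nodeCompl ≤ Subgroup.closure {g : GL chevE8.Idx K₂ |
      (∃ r t, chevE8.IsPosRoot (r : Fin chevE8.nroots).val ∧ g = C.G.xu r t) ∨
        ∃ i ∈ nodeCompl, g = C.G.nU i} := by
    refine sup_le (sup_le ?_ ?_) ?_
    · rw [C.G.posUnipotent_eq_closure]
      refine Subgroup.closure_mono ?_
      rintro g ⟨r, t, hr, rfl⟩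
      exact Or.inl ⟨r, t, hr, rfl⟩
    · rw [diag_eq_bot]; exact bot_le
    · refine Subgroup.closure_mono ?_
      rintro g ⟨i, hi, rfl⟩
      exact Or.inr ⟨i, hi, rfl⟩
  have hg' := hle hg
  clear hg
  induction hg' using Subgroup.closure_induction'' with
  | one =>
    intro a b hab
    rw [Units.val_one, Matrix.one_apply_ne]
    rintro rfl
    exact lt_irrefl _ hab
  | mul x y _ _ hx hy => rw [Units.val_mul]; exact LowZero.mul C node hx hy
  | mem x hx => exact hgen x hx
  | inv_mem x hx =>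
    rcases hx with ⟨r, t, hr, rfl⟩ | ⟨i, hi, rfl⟩
    · rw [C.G.xu_inv]; exact lowZero_xu C node (C.G.rho_nonneg hr node) _
    · rw [nU_inv C i]
      exact lowZero_nU C node (by simpa using hi)

theorem negr_simp_not_mem :
    C.G.xu (C.G.negr (C.G.simp' node)) (1 : K₂) ∉ C.PJ nodeCompl := by
  intro h
  set α := C.G.simp' node
  set β := C.G.negr α with hβ
  have h0 := PJ_lowZero C h (Sum.inl node) (Sum.inr α) (by
    simp [lev, weight, α, C.G.rho_simp])
  rw [← C.G.x_eq_xu, ChevalleyDatum.x, dif_pos β.isLt] at h0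
  have hne : α ≠ β := fun e => by
    have := congrFun (congrArg C.G.rho e) node
    rw [hβ, C.G.rho_negr, Pi.neg_apply, C.G.rho_simp] at this
    simp at this
  have hneg : α.val = chevE8.negIdx.getD β.val 0 := by
    change α.val = chevE8.neg β.val
    rw [C.G.neg_val, hβ, C.G.negr_negr]
  change (if α = β then _ else if α.val = chevE8.negIdx.getD β.val 0 then _ else _) = (0 : K₂) at h0
  rw [if_neg hne, if_pos hneg] at h0
  change ((crc chevE8 β.val node.val : ℤ) : K₂) * 1 = 0 at h0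
  rw [← rho_eq_crc C, hβ, C.G.rho_negr, Pi.neg_apply, C.G.rho_simp] at h0
  simp at h0

/-- A set of vanishing conditions closed under the reflections off the node is decided at the last
root of the level. -/
theorem iff_top (Z : Fin chevE8.nroots → Prop)
    (hZ : ∀ i ≠ node, ∀ r, Z (C.G.w i r) ↔ Z r) {k : ℕ} (hk : 1 ≤ k) :
    ∀ d (r : Fin chevE8.nroots), chevE8.nroots - r.val = d → C.G.rho r node = k →
      ∀ s : Fin chevE8.nroots, s.val = topRoot k → (Z r ↔ Z s) := by
  intro d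
  induction d using Nat.strong_induction_on with
  | _ d ih =>
    intro r hd hr s hs
    have hr' : crc chevE8 r.val 3 = k := by rw [← hr, rho_eq_crc C]
    rcases table_climb r.val r.isLt (by rw [hr']; exact_mod_cast hk) with h | ⟨i, hi, hi3, hlt⟩
    · rw [hr', Int.toNat_natCast, ← hs] at h
      rw [Fin.ext h]
    · have hi' : (⟨i, hi⟩ : Fin chevE8.rank) ≠ node := fun e => hi3 (congrArg Fin.val e)
      have hwv : (C.G.w ⟨i, hi⟩ r).val = chevE8.reflectRoot i r.val := C.G.w_reflect _ _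
      rw [← hZ _ hi' r]
      refine ih (chevE8.nroots - (C.G.w ⟨i, hi⟩ r).val) ?_ _ rfl ?_ s hs
      · have := (C.G.w ⟨i, hi⟩ r).isLt
        omega
      · rw [lev_w_ne C hi', hr]

/-- Normal subgroups killed at one root of a level lie one level up. -/
theorem climb_level {k : ℕ} (hk : 1 ≤ k) {r₀ : Fin chevE8.nroots} (hr₀ : C.G.rho r₀ node = k)
    {N : Subgroup (GL chevE8.Idx K₂)} (hN : N ≤ levCl C node k)
    (hn : ∀ g ∈ C.PJ (K := K₂) nodeCompl, ∀ x ∈ N, g * x * g⁻¹ ∈ N)
    (h0 : ∀ x ∈ N, coefAt r₀ (jfun r₀) x = 0) : N ≤ levCl C node (k + 1) := by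
  intro x hx
  refine mem_succ_of_coef C node hk jfun jfun_spec (hN hx) fun r hr => ?_
  suffices hall : ∀ y ∈ N, coefAt r (jfun r) y = 0 from hall x hx
  let Z : Fin chevE8.nroots → Prop :=
    fun r => C.G.rho r node = k → ∀ y ∈ N, coefAt r (jfun r) y = 0
  have hZ : ∀ i ≠ node, ∀ r, Z (C.G.w i r) ↔ Z r := by
    have half : ∀ i ≠ node, ∀ r, Z (C.G.w i r) → Z r := by
      intro i hi r hw hrk y hy
      have hmem : C.G.nU i ∈ C.PJ (K := K₂) nodeCompl :=
        Subgroup.mem_sup_right (Subgroup.subset_closure ⟨i, by simpa using hi, rfl⟩)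
      have hrw : C.G.rho (C.G.w i r) node = k := by rw [lev_w_ne C hi, hrk]
      have h := coef_conj C node i hk hk (fun q hq => by rw [lev_w_ne C hi]; exact hq) jfun hrk hrw
        (hN hy)
      rw [hw hrw _ (hn _ hmem y hy), zero_mul] at h
      refine (mul_eq_zero.1 h.symm).resolve_left (mul_ne_zero ?_ (jfun_spec _))
      rcases C.G.eta_unit i r with e | e <;> simp [e]
    exact fun i hi r => ⟨half i hi r, fun h => half i hi _ (by rwa [C.G.w_w])⟩
  have hk6 : k ≤ 6 := by
    have := table_le_six r.val r.isLt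
    rw [rho_eq_crc C] at hr
    change crc chevE8 r.val 3 = k at hr
    omega
  have htop : topRoot k < chevE8.nroots := by
    change topRoot k < 240
    interval_cases k <;> decide
  have h1 := iff_top C Z hZ hk _ r rfl hr ⟨topRoot k, htop⟩ rfl
  have h2 := iff_top C Z hZ hk _ r₀ rfl hr₀ ⟨topRoot k, htop⟩ rfl
  exact fun y hy => (h1.2 (h2.1 fun _ => h0)) hr y hy

theorem PJ_gens {M : Subgroup (GL chevE8.Idx K₂)} (hM : chevE8.borelSubgroup K₂ ≤ M)
    (h : ∀ i, C.G.nU i ∈ M) : chevE8.group K₂ ≤ M := by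
  rw [C.G.group_eq_simple, Subgroup.closure_le]
  rintro g ⟨i, t, rfl | rfl⟩
  · exact hM (Subgroup.mem_sup_left (C.G.xu_mem_U (C.G.simp_pos i) t))
  · obtain ⟨u, hu⟩ : ∃ u : K₂,
        C.G.nU i * C.G.xu (C.G.simp' i) u * (C.G.nU i)⁻¹ = C.G.xu (C.G.negr (C.G.simp' i)) t := by
      refine ⟨-t, ?_⟩
      rw [C.G.nU_xu, mul_inv_cancel_right, C.G.w_simp, C.G.eta_simp]
      congr 1
      simp
    rw [← hu]
    exact M.mul_mem (M.mul_mem (h i) (hM (Subgroup.mem_sup_left
      (C.G.xu_mem_U (C.G.simp_pos i) u)))) (M.inv_mem (h i))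

theorem isCoatom_PJ :
    IsCoatom ((C.PJ (K := K₂) nodeCompl).subgroupOf (chevE8.group K₂)) := by
  set G₂ := chevE8.group K₂
  set P := (C.PJ (K := K₂) nodeCompl).subgroupOf G₂
  refine ⟨fun h => negr_simp_not_mem C ?_, fun M hM => ?_⟩
  · exact (Subgroup.subgroupOf_eq_top.1 h) (C.G.xu_mem _ _)
  have hB : (C.bnPair (K := K₂)).B ≤ M := fun x hx => hM.le (Subgroup.mem_subgroupOf.2
    (Subgroup.mem_sup_left (Subgroup.mem_subgroupOf.1 hx)))
  have heq := CfsgLib.Lie.BN.eq_parabolic_of_le (C.bnPair (K := K₂)) M hB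
  have hnode : C.sG (K := K₂) node ∈ M := by
    by_contra hnot
    refine hM.not_ge ?_
    rw [heq]
    refine sup_le (fun x hx => Subgroup.mem_subgroupOf.2
      (Subgroup.mem_sup_left (Subgroup.mem_subgroupOf.1 hx))) ((Subgroup.closure_le _).2 ?_)
    rintro x ⟨⟨i, rfl⟩, hxM⟩
    refine Subgroup.mem_subgroupOf.2 (Subgroup.mem_sup_right (Subgroup.subset_closure ⟨i, ?_, rfl⟩))
    simp only [Finset.coe_erase, Set.mem_diff, Finset.coe_univ, Set.mem_univ, true_and,
      Set.mem_singleton_iff]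
    rintro rfl
    exact hnot hxM
  have hall : ∀ i, C.sG (K := K₂) i ∈ M := by
    intro i
    by_cases hi : i = node
    · exact hi ▸ hnode
    · refine hM.le (Subgroup.mem_subgroupOf.2 (Subgroup.mem_sup_right (Subgroup.subset_closure
        ⟨i, ?_, rfl⟩)))
      simp [hi]
  have hle : G₂ ≤ M.map G₂.subtype := by
    refine PJ_gens C (fun x hx => ?_) fun i => ⟨_, hall i, rfl⟩
    exact ⟨⟨x, C.G.borel_le_group hx⟩, hB (Subgroup.mem_subgroupOf.2 hx), rfl⟩
  rw [eq_top_iff]
  intro x _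
  obtain ⟨y, hy, hyx⟩ := hle x.2
  rwa [← Subtype.ext hyx]

theorem levCl_le_PJ {k : ℕ} (hk : 1 ≤ k) :
    (levCl C node k : Subgroup (GL chevE8.Idx K₂)) ≤ C.PJ nodeCompl := by
  refine (Subgroup.closure_le _).2 ?_
  rintro g ⟨r, t, hr, rfl⟩
  exact Subgroup.mem_sup_left (Subgroup.mem_sup_left
    (C.G.xu_mem_U (pos_of_lev C node (by omega)) t))

theorem shift_levCl {k : ℕ} (hk : 1 ≤ k) {x : GL chevE8.Idx K₂}
    (hx : x ∈ levCl C node (k + 1)) :
    C.G.nU node * x * (C.G.nU node)⁻¹ ∈ levCl C node k := by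
  refine nU_conj_mem C node node (fun q hq => ?_) hx
  push_cast at hq
  have := lev_w_node C (r := q) (by omega)
  omega

theorem climb_first {N : Subgroup (GL chevE8.Idx K₂)} (hN : N ≤ levCl C node 1)
    (hn : ∀ g ∈ C.PJ (K := K₂) nodeCompl, ∀ x ∈ N, g * x * g⁻¹ ∈ N)
    (hs : ∀ x ∈ N, C.G.nU node * x * (C.G.nU node)⁻¹ ∈ C.PJ nodeCompl) :
    N ≤ levCl C node 2 := by
  set α := C.G.simp' node with hα
  have hαl : C.G.rho α node = ((1 : ℕ) : ℤ) := by simp [hα, C.G.rho_simp]
  refine climb_level C (r₀ := α) le_rfl hαl hN hn fun x hx => ?_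
  let P : Fin chevE8.nroots → Prop := fun r => (1 : ℤ) ≤ C.G.rho r node ∧ r ≠ α
  obtain ⟨y, hy, t, rfl⟩ := split C (P := P) (a := α) (pos_of_lev C node (by omega))
    (fun b hb => pos_of_lev C node (by have := hb.1; omega))
    (fun b hb p i j hi hj e => by
      have h := lev_combo C node (by omega) (by have := hb.1; omega) hi hj e
      have := hb.1
      exact ⟨by omega, fun hp => by rw [hp] at h; omega⟩)
    (C.G.ClP_mono (fun r hr => by
      by_cases h : r = α
      · exact Or.inr h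
      · exact Or.inl ⟨by simpa using hr, h⟩) (hN hx))
  have hy1 : y ∈ levCl C node 1 := C.G.ClP_mono (fun r hr => by simpa using hr.1) hy
  have hya : coefAt α (jfun α) y = 0 := by
    suffices y ∈ levCl C node 1 ∧ coefAt α (jfun α) y = 0 from this.2
    clear hy1 hs hx
    induction hy using Subgroup.closure_induction'' with
    | one => exact ⟨one_mem _, by simp [coefAt]⟩
    | mul u v _ _ hu hv =>
      exact ⟨mul_mem hu.1 hv.1,
        by rw [coefAt_mul C node le_rfl hαl _ hu.1 hv.1, hu.2, hv.2, add_zero]⟩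
    | mem u hu =>
      obtain ⟨r, s, hr, rfl⟩ := hu
      exact ⟨xu_mem_levCl C node (by simpa using hr.1) s, by rw [coefAt_xu C, if_neg hr.2.symm]⟩
    | inv_mem u hu =>
      obtain ⟨r, s, hr, rfl⟩ := hu
      rw [C.G.xu_inv]
      exact ⟨xu_mem_levCl C node (by simpa using hr.1) _, by rw [coefAt_xu C, if_neg hr.2.symm]⟩
  -- the conjugate of the factor `y` lies in the Borel subgroup
  have hyP : C.G.nU node * y * (C.G.nU node)⁻¹ ∈ C.PJ (K := K₂) nodeCompl := by
    refine Subgroup.mem_sup_left (Subgroup.mem_sup_left ?_)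
    clear hs hx hy1 hya
    induction hy using Subgroup.closure_induction with
    | mem g hg =>
      obtain ⟨r, s, hr, rfl⟩ := hg
      rw [C.G.nU_xu, mul_inv_cancel_right]
      exact C.G.xu_mem_U (C.G.w_pos (pos_of_lev C node (by have := hr.1; omega)) hr.2) _
    | one => simp
    | mul a b _ _ ha hb =>
      rw [show C.G.nU node * (a * b) * (C.G.nU node)⁻¹ =
        (C.G.nU node * a * (C.G.nU node)⁻¹) * (C.G.nU node * b * (C.G.nU node)⁻¹) by group]
      exact mul_mem ha hb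
    | inv a _ ha =>
      rw [show C.G.nU node * a⁻¹ * (C.G.nU node)⁻¹ =
        (C.G.nU node * a * (C.G.nU node)⁻¹)⁻¹ by group]
      exact inv_mem ha
  have h := hs _ hx
  rw [show C.G.nU node * (y * C.G.xu α t) * (C.G.nU node)⁻¹ =
    (C.G.nU node * y * (C.G.nU node)⁻¹) *
      (C.G.nU node * C.G.xu α t * (C.G.nU node)⁻¹) by group,
    Subgroup.mul_mem_cancel_left _ hyP, C.G.nU_xu, mul_inv_cancel_right, C.G.w_simp,
    C.G.eta_simp] at h
  have ht : t = 0 := by
    rcases (by decide : ∀ u : K₂, u = 0 ∨ u = 1) t with rfl | rfl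
    · rfl
    · refine absurd ?_ (negr_simp_not_mem C)
      convert h using 2
      rfl
  rw [ht, C.G.xu_zero, mul_one]
  exact hya

theorem climb_higher {k : ℕ} (hk : 2 ≤ k) (hk6 : k ≤ 6) {N : Subgroup (GL chevE8.Idx K₂)}
    (hN : N ≤ levCl C node k) (hn : ∀ g ∈ C.PJ (K := K₂) nodeCompl, ∀ x ∈ N, g * x * g⁻¹ ∈ N)
    (hs : ∀ x ∈ N, C.G.nU node * x * (C.G.nU node)⁻¹ ∈ levCl C node k) :
    N ≤ levCl C node (k + 1) := by
  obtain ⟨r, hr, h1, h2⟩ := table_drop (k - 2) (by omega)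
  set r₀ : Fin chevE8.nroots := ⟨r, hr⟩
  have hr₀ : C.G.rho r₀ node = k := by
    rw [rho_eq_crc C]; change crc chevE8 r 3 = _; rw [h1]; omega
  have hw₀ : C.G.rho (C.G.w node r₀) node = ((k - 1 : ℕ) : ℤ) := by
    rw [lev_w C]; change crc chevE8 (chevE8.reflectRoot 3 r) 3 = _; rw [h2]; omega
  refine climb_level C (by omega) hr₀ hN hn fun x hx => ?_
  have h := coef_conj C node node (k := k) (l := k - 1) (by omega) (by omega) (fun q hq => by
    have := lev_w_node C (r := q) (by omega)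
    omega) jfun hr₀ hw₀ (hN hx)
  have hzero : coefAt (C.G.w node r₀) (jfun (C.G.w node r₀))
      (C.G.nU node * x * (C.G.nU node)⁻¹) = 0 := by
    have hr' := raisesLev_levCl C node (k := k) (by omega) (hs x hx)
    rw [coefAt, hr' _ _ (by simp [lev, weight, hw₀]; omega)]
    simp
  rw [hzero, zero_mul] at h
  refine (mul_eq_zero.1 h.symm).resolve_left (mul_ne_zero ?_ (jfun_spec _))
  rcases C.G.eta_unit node r₀ with e | e <;> simp [e]

theorem graded : Graded ((C.PJ (K := K₂) nodeCompl).subgroupOf (chevE8.group K₂))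
    (C.sG node) (fun k => (levCl C node k).subgroupOf (chevE8.group K₂)) where
  invol := Subtype.ext (nU_sq_eq_one C node)
  le k hk := fun x hx => levCl_le_PJ C hk hx
  normal k hk g hg x hx := PJ_normal C hk hg hx
  mono k hk := fun x hx => levCl_mono C node (Nat.le_succ k) hx
  shift k hk x hx := shift_levCl C hk hx
  cent g hg h := by
    rw [Subgroup.mem_subgroupOf, levCl_one]
    refine C.PJ_cent_one_le (chkSupp_all (by simp)) (chkPairOut_all (by simp)) ?_ hg fun r hr hJ => ?_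
    · exact fun e => Finset.notMem_erase node Finset.univ (e.symm ▸ Finset.mem_univ node)
    · rw [inJ_iff C] at hJ
      have := C.G.rho_nonneg hr node
      exact (congrArg Subtype.val (h ⟨C.G.xu r 1, C.G.xu_mem r 1⟩
        (xu_mem_levCl C node (show ((1 : ℕ) : ℤ) ≤ C.G.rho r node by push_cast; omega) 1))).symm
  climb_one N hN hn hs := by
    have h := climb_first C (N := N.map (chevE8.group K₂).subtype)
      (by rintro _ ⟨x, hx, rfl⟩; exact hN hx)
      (by
        rintro g hg _ ⟨x, hx, rfl⟩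
        exact ⟨_, hn ⟨g, C.PJ_le_group hg⟩ hg x hx, rfl⟩)
      (by rintro _ ⟨x, hx, rfl⟩; exact hs x hx)
    exact fun x hx => h ⟨x, hx, rfl⟩
  climb k hk hk6 N hN hn hs := by
    have h := climb_higher C hk hk6 (N := N.map (chevE8.group K₂).subtype)
      (by rintro _ ⟨x, hx, rfl⟩; exact hN hx)
      (by
        rintro g hg _ ⟨x, hx, rfl⟩
        exact ⟨_, hn ⟨g, C.PJ_le_group hg⟩ hg x hx, rfl⟩)
      (by rintro _ ⟨x, hx, rfl⟩; exact hs x hx)
    exact fun x hx => h ⟨x, hx, rfl⟩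
  top := by
    have h : (levCl C node 7 : Subgroup (GL chevE8.Idx K₂)) = ⊥ := by
      rw [levCl, ClP, Subgroup.closure_eq_bot_iff]
      rintro g ⟨r, t, hr, rfl⟩
      have := table_le_six r.val r.isLt
      rw [rho_eq_crc C] at hr
      change (7 : ℤ) ≤ crc chevE8 r.val 3 at hr
      omega
    rw [h, Subgroup.bot_subgroupOf]
  six := by
    intro h
    rw [Subgroup.subgroupOf_eq_bot] at h
    set r : Fin chevE8.nroots := ⟨239, show 239 < 240 by norm_num⟩
    have hr : ((6 : ℕ) : ℤ) ≤ C.G.rho r node := by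
      rw [rho_eq_crc C]; exact le_of_eq table_six.symm
    have := Subgroup.disjoint_def.1 h (xu_mem_levCl C node hr (1 : K₂)) (C.G.xu_mem r 1)
    rw [C.G.xu_eq_one_iff] at this
    exact one_ne_zero this

/-- Conjugate maximal subgroups whose fifth iterated cores do not vanish. -/
theorem exists_fifth_core :
    ∃ (G : Type) (_ : Group G) (_ : Finite G) (M₁ M₂ : Subgroup G) (g : G) (A B : ℕ → Subgroup G),
      IsCoatom M₁ ∧ M₂ = M₁.map (MulAut.conj g).toMonoidHom ∧ M₁ ≠ M₂ ∧ M₁.normalCore = ⊥ ∧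
      A 0 = M₁ ∧ B 0 = M₂ ∧
      (∀ i, A (i + 1) = ((A i ⊓ B i).subgroupOf M₁).normalCore.map M₁.subtype) ∧
      (∀ i, B (i + 1) = ((A i ⊓ B i).subgroupOf M₂).normalCore.map M₂.subtype) ∧
      A 6 = ⊥ ∧ A 5 ≠ ⊥ := by
  obtain ⟨C⟩ := nonempty_full (D := chevE8) (by simp)
  obtain ⟨A, B, hA0, hB0, hA, hB, hA6, hA5, hne, hcore⟩ := (graded C).witness
  exact ⟨↥(chevE8.group K₂), inferInstance, inferInstance, _, _, C.sG node, A, B, isCoatom_PJ C,
    rfl, hne, hcore, hA0, hB0, hA, hB, hA6, hA5⟩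

end CfsgLib.Lie.Chev.ParabCores
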